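import Groth.Agent.SurfRR.Curve
import Groth.Agent.HilbPoly.PnTwist
import Groth.Agent.AmpleX.Proj
import Groth.Agent.VolLib.SecAvoid
import Groth.Agent.AffCompl.Section
import Groth.Agent.BlowUpX.Basic
import Groth.Agent.IntNum.Push
import Groth.Agent.CurveAlgEqLib.IdealPull
import Groth.Agent.S4466

/-! A line of the plane missing the centre of a blow-up. -/

noncomputable section

set_option autoImplicit false
set_option linter.style.haveILetI false
set_option linter.unusedSectionVars false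
set_option backward.isDefEq.respectTransparency false
set_option backward.isDefEq.respectTransparency.types false
set_option maxHeartbeats 1000000

universe u
open CategoryTheory CategoryTheory.Limits AlgebraicGeometry TopologicalSpace
open Surf
open scoped Groth.Agent.H23.PicMul
open Groth.Agent.H23.PicMul (cl_tensor cl_eq_iff)
open Groth.Agent.H23

namespace Groth.Agent.PlaneBlowUp

section Pull

variable {X Y : Scheme.{u}}

/-- A closed subscheme inside an open over which `σ` is an isomorphism lifts. -/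
theorem exists_lift (σ : X ⟶ Y) (U : Y.Opens) [IsIso (σ ∣_ U)] (J : Y.IdealSheafData)
    (hJ : (J.support : Set Y) ⊆ U) :
    ∃ j : J.subscheme ⟶ X, IsPullback j (𝟙 J.subscheme) σ J.subschemeι := by
  have hr : Set.range J.subschemeι ⊆ Set.range U.ι := by
    rw [Scheme.IdealSheafData.range_subschemeι, Scheme.Opens.range_ι]; exact hJ
  let i' := IsOpenImmersion.lift U.ι J.subschemeι hr
  have hi' : i' ≫ U.ι = J.subschemeι := IsOpenImmersion.lift_fac _ _ _
  let j : J.subscheme ⟶ X := i' ≫ inv (σ ∣_ U) ≫ (σ ⁻¹ᵁ U).ι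
  have hj : j ≫ σ = J.subschemeι := by
    simp only [j, Category.assoc, ← morphismRestrict_ι, IsIso.inv_hom_id_assoc, hi']
  refine ⟨j, ⟨⟨by rw [hj, Category.id_comp]⟩, ⟨PullbackCone.IsLimit.mk _ (fun s => s.snd) (fun s => ?_)
    (fun s => Category.comp_id _) (fun s m _ h2 => by simpa using h2)⟩⟩⟩
  have hsr : Set.range s.fst ⊆ Set.range (σ ⁻¹ᵁ U).ι := by
    rintro _ ⟨t, rfl⟩
    rw [Scheme.Opens.range_ι]
    show σ (s.fst t) ∈ U
    rw [← Scheme.Hom.comp_apply, s.condition, Scheme.Hom.comp_apply]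
    exact hJ ((Scheme.IdealSheafData.range_subschemeι J).le ⟨_, rfl⟩)
  let g := IsOpenImmersion.lift (σ ⁻¹ᵁ U).ι s.fst hsr
  have hg : g ≫ (σ ⁻¹ᵁ U).ι = s.fst := IsOpenImmersion.lift_fac _ _ _
  have h : g ≫ (σ ∣_ U) = s.snd ≫ i' := by
    rw [← cancel_mono U.ι, Category.assoc, morphismRestrict_ι, ← Category.assoc, hg, s.condition,
      Category.assoc, hi']
  show s.snd ≫ j = s.fst
  simp only [j, ← Category.assoc, ← h]
  simp [hg]

theorem ker_lift {σ : X ⟶ Y} {J : Y.IdealSheafData} {j : J.subscheme ⟶ X}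
    (h : IsPullback j (𝟙 J.subscheme) σ J.subschemeι) : j.ker = J.comap σ := by
  rw [Scheme.IdealSheafData.comap, ← h.isoPullback_hom_fst, Scheme.Hom.ker_comp_of_isIso]

/-- The comap of an effective Cartier divisor missing the image of some point. -/
theorem isEffCartier_comap [IsIntegral X] (σ : X ⟶ Y) {J : Y.IdealSheafData}
    (hJc : BlowUp.IsEffCartierIdeal J) {z : X} (hz : σ z ∉ J.support) :
    BlowUp.IsEffCartierIdeal (J.comap σ) := by
  refine BlowUpX.isEffCartier_of_reduced (fun x => ?_) fun x hx hxs => ?_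
  · obtain ⟨U, hU, a, -, hJa⟩ := hJc (σ x)
    obtain ⟨V, hV, hxV, hVU⟩ := exists_isAffineOpen_mem_and_subset (U := σ ⁻¹ᵁ U.1) hU
    exact ⟨⟨V, hV⟩, hxV, σ.appLE U.1 V hVU a, by
      rw [ModPairLib.ideal_comap J σ U ⟨V, hV⟩ hVU, hJa, Ideal.map_span, Set.image_singleton]⟩
  · have hxgen : x = genericPoint X := (hx _ ((genericPoint_spec X).specializes trivial)).symm
    rw [Scheme.IdealSheafData.support_comap] at hxs
    subst hxgen
    exact hz (((genericPoint_spec X).specializes (trivial : z ∈ ⊤)).mem_closed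
      (J.support.isClosed.preimage σ.continuous) hxs)

end Pull

theorem euler_tw_add {k : Type u} [Field k] {Y : Scheme.{u}} [Y.Over (Spec (CommRingCat.of k))]
    [IsProper (Y ↘ Spec (CommRingCat.of k))] [IsNoetherian Y] {B : Y.Modules} (hB : PicF.IsInvertible B)
    {S : ShortComplex Y.Modules} (hS : S.ShortExact)
    (hA : Coh.IsCoh S.X₁) (hM : Coh.IsCoh S.X₂) (hQ : Coh.IsCoh S.X₃) :
    Curv2.euler k Y ((AmpleVan.tw B).obj S.X₂) =
      Curv2.euler k Y ((AmpleVan.tw B).obj S.X₁) + Curv2.euler k Y ((AmpleVan.tw B).obj S.X₃) := by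
  obtain ⟨h, hses⟩ := VolLib.ses_tw hB hS
  have a1 := VolLib.isCoh_tw hB hA
  have a2 := VolLib.isCoh_tw hB hM
  have a3 := VolLib.isCoh_tw hB hQ
  exact CurveCohLib.euler_additive (k := k) (X := Y) (S := ShortComplex.mk _ _ h) hses a1 a2 a3

theorem euler_tensor_quot {k : Type u} [Field k] {Y : Scheme.{u}} [Y.Over (Spec (CommRingCat.of k))]
    [IsProper (Y ↘ Spec (CommRingCat.of k))] {B : Y.Modules} (hB : PicF.IsInvertible B) {J : Y.IdealSheafData}
    (hI : Coh.IsCoh (ClSub.idealMod J)) :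
    Curv2.euler k Y ((AmpleVan.tw B).obj (Coh.structureModule Y)) =
      Curv2.euler k Y ((AmpleVan.tw B).obj (ClSub.idealMod J)) +
        Curv2.euler k Y ((AmpleVan.tw B).obj (ClSub.quotMod J)) := by
  haveI := CurveCohLib.isNoetherian_of_proper (k := k) (X := Y)
  exact euler_tw_add hB (S := ShortComplex.mk (ClSub.idealModι J) (ClSub.toSubscheme J) (kernel.condition _))
    (IntSym.shortExact_toSubscheme J) hI QCoh.isCoh_structureModule'
    (ParShLib.isCoh_quotMod J)

variable {k : Type u} [Field k]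

/-- `O(1)` on the plane has sections without common zero. -/
theorem gen_twist_one (n : ℕ) : VolLib.Gen (Twist.twistProjSpace n k 1) :=
  ⟨n + 1, fun l => InvX.ofSect (ProjUPX.sec (CohB1.polyGrading n k) (PruferCoh.Xs_mem n k (ULift.up l))), fun x => by
    obtain ⟨l, hl⟩ := Opens.mem_iSup.1 ((PruferCoh.iSup_Xs n k).ge (trivial : x ∈ (⊤ : (CohB1.ProjSpace n k).Opens)))
    exact ⟨l.down, (AmpleX.genLocus_sec (CohB1.polyGrading n k) (PruferCoh.Xs n k) (PruferCoh.Xs_mem n k)
      (PruferCoh.iSup_Xs n k) (PruferCoh.Xs_mem n k l)).ge hl⟩⟩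

theorem euler_plane (z : ℤ) :
    Curv2.euler k (CohB1.ProjSpace 2 k) (Twist.twistProjSpace 2 k z) = Ring.choose (z + 2) 2 := by
  haveI : IsProper ((CohB1.ProjSpace 2 k) ↘ Spec (CommRingCat.of k)) := PnCoh.Chow.isProper_toSpec 2 k
  haveI : IsNoetherian (CohB1.ProjSpace 2 k) := CurveCohLib.isNoetherian_of_proper (k := k)
  have h := S4466.result k 2 two_pos z
  rw [Nat.cast_ofNat] at h
  rw [← h]
  exact CurveCohLib.euler_eq_sum (N := 3) fun i hi =>
      S0844.result k 2 z i (fun h => by omega) (fun h => by omega)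

theorem cl_twist_add (a b : ℤ) :
    PicF.cl (Twist.twistProjSpace 2 k a) * PicF.cl (Twist.twistProjSpace 2 k b) =
      PicF.cl (Twist.twistProjSpace 2 k (a + b)) := by
  rw [← cl_tensor]
  exact cl_eq_iff.2 (HilbPoly.nonempty_add 2 k a b)

theorem cl_twist_zero :
    PicF.cl (Twist.twistProjSpace 2 k 0) = PicF.cl (Coh.structureModule (CohB1.ProjSpace 2 k)) := by
  have h := cl_eq_iff.2 (HilbPoly.nonempty_pow 2 k 0)
  rw [Nat.cast_zero] at h
  exact h.trans rfl

/-- A line missing a finite set. -/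
theorem exists_line [IsAlgClosed k] {S : Set (CohB1.ProjSpace 2 k)} (hS : S.Finite) :
    ∃ J : (CohB1.ProjSpace 2 k).IdealSheafData, BlowUp.IsEffCartierIdeal J ∧
      ClSub.IsInverseOf (Twist.twistProjSpace 2 k 1) (ClSub.idealMod J) ∧
      Disjoint (J.support : Set (CohB1.ProjSpace 2 k)) S ∧
      (∃ y, y ∉ J.support ∧ ∀ (U : (CohB1.ProjSpace 2 k).Opens) (x : CohB1.ProjSpace 2 k), x ∈ U → y ∈ U) ∧
      Curv2.euler k (CohB1.ProjSpace 2 k) (ClSub.quotMod J) = 1 ∧
      Curv2.euler k (CohB1.ProjSpace 2 k)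
        (CohB1.tensorMod (ClSub.quotMod J) (Twist.twistProjSpace 2 k 1)) = 2 := by
  haveI : IsProper ((CohB1.ProjSpace 2 k) ↘ Spec (CommRingCat.of k)) := PnCoh.Chow.isProper_toSpec 2 k
  haveI : IsNoetherian (CohB1.ProjSpace 2 k) := CurveCohLib.isNoetherian_of_proper (k := k)
  haveI := H23.PnChart.isIntegral_projSpace 2 k
  haveI : Infinite k := IsAlgClosed.instInfinite
  have hB : PicF.IsInvertible (Twist.twistProjSpace 2 k 1) := (HilbPoly.isAmple_twistProjSpace_one 2 k).1
  obtain ⟨c, hc⟩ := VolLib.exists_secOf_avoid (k := k) hB (gen_twist_one 2)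
    (hS.union (Set.finite_singleton (genericPoint (CohB1.ProjSpace 2 k))))
  obtain ⟨J, hJ, hinv, hsupp⟩ := AffCompl.exists_divisor_of_section hB
    (InvX.ofSect (VolLib.secOf (Twist.twistProjSpace 2 k 1) c))
    (AffCompl.ne_zero_of_mem _ (hc _ (Or.inr rfl)))
  have hη : genericPoint (CohB1.ProjSpace 2 k) ∉ J.support := by
    intro h
    rw [← SetLike.mem_coe, hsupp] at h
    exact h (hc _ (Or.inr rfl))
  refine ⟨J, hJ, hinv, Set.disjoint_left.2 fun x hx hxS => ?_, ⟨_, hη, fun U x hx =>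
    ((genericPoint_spec _).mem_open_set_iff U.isOpen).2 ⟨x, trivial, hx⟩⟩, ?_⟩
  · rw [hsupp] at hx
    exact hx (hc x (Or.inl hxS))
  have hIJ := (S8914.result J).2 hJ
  have hclJ : PicF.cl (ClSub.idealMod J) = PicF.cl (Twist.twistProjSpace 2 k (-1)) := by
    obtain ⟨u⟩ := hinv
    have h1 := cl_eq_iff.2 ⟨u⟩
    rw [cl_tensor] at h1
    calc PicF.cl (ClSub.idealMod J)
        = PicF.cl (ClSub.idealMod J) * PicF.cl (Twist.twistProjSpace 2 k 0) := by
          rw [cl_twist_zero, ← H23.PicMul.one_def, mul_one]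
      _ = PicF.cl (ClSub.idealMod J) * (PicF.cl (Twist.twistProjSpace 2 k 1) *
            PicF.cl (Twist.twistProjSpace 2 k (-1))) := by
          rw [cl_twist_add, show (1 : ℤ) + -1 = 0 from by norm_num]
      _ = PicF.cl (Twist.twistProjSpace 2 k (-1)) := by
          rw [← mul_assoc, mul_comm (PicF.cl (ClSub.idealMod J)), h1, ← H23.PicMul.one_def, one_mul]
  obtain ⟨eJ⟩ := cl_eq_iff.1 hclJ
  have hq0 : Curv2.euler k (CohB1.ProjSpace 2 k) (ClSub.quotMod J) = 1 := by
    have h := SurfRR.euler_idealMod k J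
    rw [CurveCohLib.euler_congr eJ, euler_plane] at h
    have h0 := euler_plane (k := k) 0
    rw [CurveCohLib.euler_congr (cl_eq_iff.1 cl_twist_zero).some] at h0
    rw [h0, show Ring.choose ((-1 : ℤ) + 2) 2 = 0 from by decide,
      show Ring.choose ((0 : ℤ) + 2) 2 = 1 from by decide] at h
    linarith
  have hq1 : Curv2.euler k (CohB1.ProjSpace 2 k)
      (CohB1.tensorMod (ClSub.quotMod J) (Twist.twistProjSpace 2 k 1)) = 2 := by
    have hadd := euler_tensor_quot (k := k) hB (J := J) (AmpleVan.isCoh_invertible hIJ)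
    obtain ⟨u⟩ := hinv
    have e1 : Curv2.euler k (CohB1.ProjSpace 2 k)
        (CohB1.tensorMod (ClSub.idealMod J) (Twist.twistProjSpace 2 k 1)) =
        Curv2.euler k (CohB1.ProjSpace 2 k) (Twist.twistProjSpace 2 k 0) := by
      refine CurveCohLib.euler_congr (cl_eq_iff.1 ?_).some
      rw [cl_tensor, hclJ, cl_twist_add]; rfl
    have e2 : Curv2.euler k (CohB1.ProjSpace 2 k)
        (CohB1.tensorMod (Coh.structureModule _) (Twist.twistProjSpace 2 k 1)) =
        Curv2.euler k (CohB1.ProjSpace 2 k) (Twist.twistProjSpace 2 k 1) :=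
      CurveCohLib.euler_congr (cl_eq_iff.1 (by rw [cl_tensor, ← H23.PicMul.one_def, one_mul])).some
    change Curv2.euler k _ (CohB1.tensorMod (Coh.structureModule _) _) =
      Curv2.euler k _ (CohB1.tensorMod (ClSub.idealMod J) _) + Curv2.euler k _ (CohB1.tensorMod (ClSub.quotMod J) _) at hadd
    rw [euler_plane, show Ring.choose ((1 : ℤ) + 2) 2 = 3 from by decide] at e2
    rw [euler_plane, show Ring.choose ((0 : ℤ) + 2) 2 = 1 from by decide] at e1
    linarith
  exact ⟨hq0, hq1⟩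

variable {X : Scheme.{u}} [X.Over (Spec (CommRingCat.of k))]
  [IsProper (X ↘ Spec (CommRingCat.of k))] [Smooth (X ↘ Spec (CommRingCat.of k))]

/-- On a blow-up of the plane in finitely many points `K · H = -3` and `H · H = 1`. -/
theorem pair_canonical_H [IsAlgClosed k] [IsIntegral X] (hdim : topologicalKrullDim X = ((2 : ℕ) : WithBot ℕ∞))
    (σ : X ⟶ CohB1.ProjSpace 2 k) (hσk : σ ≫ CohB1.ProjSpace.toSpec 2 k = X ↘ (Spec (CommRingCat.of k)))
    {S : Set (CohB1.ProjSpace 2 k)} (hS : S.Finite) (hZ : IsClosed S)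
    (hσ : BlowUp.IsBlowUp σ (Scheme.IdealSheafData.vanishingIdeal ⟨S, hZ⟩))
    {W : X.Modules} (hW : ExtPow.IsExtPow 2 (Omega.sheaf (X ↘ Spec (CommRingCat.of k))) W) :
    SurfRR.pair k ((Scheme.Modules.pullback σ).obj (Twist.twistProjSpace 2 k 1))
        ((Scheme.Modules.pullback σ).obj (Twist.twistProjSpace 2 k 1)) = 1 ∧
      SurfRR.pair k W ((Scheme.Modules.pullback σ).obj (Twist.twistProjSpace 2 k 1)) = -3 := by
  haveI : IsProper ((CohB1.ProjSpace 2 k) ↘ Spec (CommRingCat.of k)) := PnCoh.Chow.isProper_toSpec 2 k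
  haveI := CurveCohLib.isNoetherian_of_proper (k := k) (X := X)
  haveI : IsNoetherian (CohB1.ProjSpace 2 k) := CurveCohLib.isNoetherian_of_proper (k := k)
  haveI := H23.PnChart.isIntegral_projSpace 2 k
  haveI : Infinite k := IsAlgClosed.instInfinite
  have hB : PicF.IsInvertible (Twist.twistProjSpace 2 k 1) := (HilbPoly.isAmple_twistProjSpace_one 2 k).1
  obtain ⟨J, hJ, hinv, hdisj, ⟨y, hy, hyU⟩, hq0, hq1⟩ := exists_line (k := k) hS
  set U : (CohB1.ProjSpace 2 k).Opens := (Scheme.IdealSheafData.vanishingIdeal ⟨S, hZ⟩).support.compl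
  haveI : IsIso (σ ∣_ U) := BlowUpX.isIso_restrict hσ
  have hU : ∀ x, x ∈ U ↔ x ∉ S := fun x => not_congr (Set.ext_iff.1 (by simp) x)
  have hJU : (J.support : Set (CohB1.ProjSpace 2 k)) ⊆ (U : Set (CohB1.ProjSpace 2 k)) := fun x hx =>
    (hU x).2 (Set.disjoint_left.1 hdisj hx)
  obtain ⟨z, hz⟩ : ∃ z : X, σ z ∉ J.support := by
    by_cases hUne : (U : Set (CohB1.ProjSpace 2 k)).Nonempty
    · obtain ⟨w, hw⟩ := hUne
      obtain ⟨z, hz⟩ := (σ ∣_ U).homeomorph.surjective ⟨y, hyU U w hw⟩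
      refine ⟨z.1, ?_⟩
      have hzv : σ z.1 = y := by
        have := congrArg Subtype.val hz
        simpa [morphismRestrict_base] using this
      rwa [hzv]
    · exact ⟨genericPoint X, fun h => hUne ⟨_, hJU h⟩⟩
  have hD := isEffCartier_comap σ hJ hz
  have hIJ := (S8914.result J).2 hJ
  have hID := (S8914.result _).2 hD
  obtain ⟨eD⟩ := CurveAlgEqLib.nonempty_pullback_idealMod σ hIJ hID
  set H := (Scheme.Modules.pullback σ).obj (Twist.twistProjSpace 2 k 1) with hHdef
  have hH : PicF.IsInvertible H := PicClLib.isInvertible_pullback σ hB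
  -- transfer to `X`
  obtain ⟨j, hj⟩ := exists_lift σ U J hJU
  letI : J.subscheme.Over (Spec (CommRingCat.of k)) :=
    ⟨J.subschemeι ≫ CohB1.ProjSpace.toSpec 2 k⟩
  have hjσ : j ≫ σ = J.subschemeι := by simpa using hj.w
  haveI : IsClosedImmersion j := MorphismProperty.of_isPullback hj.flip inferInstance
  have hjk : j ≫ (X ↘ Spec (CommRingCat.of k)) = J.subscheme ↘ Spec (CommRingCat.of k) := by
    rw [← hσk, ← Category.assoc, hjσ]; rfl
  haveI : IsProper (J.subscheme ↘ Spec (CommRingCat.of k)) :=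
    inferInstanceAs (IsProper (J.subschemeι ≫ (CohB1.ProjSpace 2 k ↘ Spec (CommRingCat.of k))))
  haveI := CurveCohLib.isNoetherian_of_proper (k := k) (X := J.subscheme)
  have hker := ker_lift hj
  set D := J.comap σ with hDdef
  obtain ⟨eQ⟩ : Nonempty ((Coh.push j).obj (Coh.structureModule J.subscheme) ≅ ClSub.quotMod D) := by
    rw [← hker]; exact (ExtShX.nonempty_push_iso_quotMod j).map Iso.symm
  have hqD0 : Curv2.euler k X (ClSub.quotMod D) = 1 := by
    rw [← CurveCohLib.euler_congr eQ, IntNum.euler_push k j hjk QCoh.isQCoh_structureModule,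
      ← IntNum.euler_push k J.subschemeι rfl QCoh.isQCoh_structureModule]
    exact hq0
  have hqD1 : Curv2.euler k X (CohB1.tensorMod (ClSub.quotMod D) H) = 2 := by
    obtain ⟨p⟩ := IntNum.push_tensor j (Coh.structureModule J.subscheme) H
    obtain ⟨p'⟩ := IntNum.push_tensor J.subschemeι (Coh.structureModule J.subscheme) (Twist.twistProjSpace 2 k 1)
    have q1 := CurveCohLib.euler_congr (k := k) (PicGrp.tensorModIso eQ (Iso.refl H))
    have q2 := CurveCohLib.euler_congr (k := k) p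
    have hq : Coh.IsQCoh (CohB1.tensorMod (Coh.structureModule J.subscheme) ((Scheme.Modules.pullback j).obj H)) :=
      (CurveDeg.isCoh_of_isInvertible (InvX.isInvertible_tensorMod InvX.isInvertible_structureModule (PicClLib.isInvertible_pullback j hH))).1
    have q3 := IntNum.euler_push k j hjk hq
    let e4 : (Scheme.Modules.pullback j).obj H ≅
        (Scheme.Modules.pullback J.subschemeι).obj (Twist.twistProjSpace 2 k 1) :=
      (Scheme.Modules.pullbackComp j σ).app _ ≪≫ (Scheme.Modules.pullbackCongr hjσ).app _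
    have q4 := CurveCohLib.euler_congr (k := k) (PicGrp.tensorModIso (Iso.refl (Coh.structureModule J.subscheme)) e4)
    have hq' : Coh.IsQCoh (CohB1.tensorMod (Coh.structureModule J.subscheme)
        ((Scheme.Modules.pullback J.subschemeι).obj (Twist.twistProjSpace 2 k 1))) :=
      (CurveDeg.isCoh_of_isInvertible (InvX.isInvertible_tensorMod InvX.isInvertible_structureModule (PicClLib.isInvertible_pullback _ hB))).1
    have q5 := IntNum.euler_push k J.subschemeι rfl hq'
    have q6 := CurveCohLib.euler_congr (k := k) p'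
    exact (q1.symm.trans q2.symm).trans (q3.trans (q4.trans (q5.symm.trans (q6.trans hq1))))
  -- intersection numbers
  have hclD : PicF.cl (ClSub.idealMod D) * PicF.cl H = PicF.cl (Coh.structureModule X) := by
    obtain ⟨u⟩ := hinv
    rw [← cl_tensor]
    refine cl_eq_iff.2 ⟨PicGrp.tensorModIso eD.symm (Iso.refl _) ≪≫ (IntNum.pullTensor σ _ _).symm ≪≫
      (Scheme.Modules.pullback σ).mapIso (cl_eq_iff.1 ?_).some ≪≫ CurveBC.unitIso σ⟩
    rw [cl_tensor, mul_comm, ← cl_tensor]
    exact cl_eq_iff.2 ⟨u⟩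
  obtain ⟨eDH⟩ : Nonempty (CohB1.tensorMod H (ClSub.idealMod D) ≅ Coh.structureModule X) :=
    cl_eq_iff.1 (by rw [cl_tensor, mul_comm]; exact hclD)
  have hsym : IntSym.sym k [H] (ClSub.quotMod D) = 1 := by
    rw [← SurfRR.eulerDiff k H (ClSub.quotMod D), hqD1, hqD0]; norm_num
  have hDH := SurfRR.pair_idealMod k hdim hD hH
  rw [hsym] at hDH
  have hWi := SurfRR.isInvertible_canonical k hdim (SurfRR.exists_proj_smooth k hdim) hW
  have hHM : ∀ {M : X.Modules}, PicF.IsInvertible M →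
      SurfRR.pair k (ClSub.idealMod D) M = - SurfRR.pair k H M := fun hM =>
    SurfRR.pair_inverse k hdim.le hH hID eDH hM
  have hHH : SurfRR.pair k H H = 1 := by
    have := hHM hH; omega
  refine ⟨hHH, ?_⟩
  have hadj := SurfRR.adjunction k hdim hD hW
  rw [hqD0, hHM hID, hHM hWi, SurfRR.pair_comm k hH hID, SurfRR.pair_comm k hH hWi] at hadj
  omega

end Groth.Agent.PlaneBlowUp
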