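import Groth.Agent.PlaneBlowUp.Fibred
import Groth.Agent.Lib.CurveTensor
import Groth.Agent.Snapper.IsoOn
import Groth.Agent.IntNum.Push
import Groth.Agent.SurfRR.Divisor

/-! Descending the vanishing of `H¹` along fibres with surjective restriction. -/

noncomputable section

set_option autoImplicit false
set_option linter.style.haveILetI false
set_option linter.unusedSectionVars false
set_option backward.isDefEq.respectTransparency false
set_option backward.isDefEq.respectTransparency.types false
set_option maxHeartbeats 1000000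

universe u
open CategoryTheory CategoryTheory.Limits AlgebraicGeometry TopologicalSpace
open Surf
open scoped Groth.Agent.H23.PicMul
open Groth.Agent.H23.PicMul (cl_tensor cl_eq_iff)

namespace Groth.Agent.PlaneBlowUp

variable {X : Scheme.{u}}

theorem support_tensor_left {E F : X.Modules} :
    CohB1.support (CohB1.tensorMod E F) ⊆ CohB1.support E := by
  intro x hx
  by_contra h
  haveI hs : Subsingleton (E.presheaf.stalk x) := not_not.1 h
  haveI hT : Subsingleton (TensorProduct (X.presheaf.stalk x) (E.presheaf.stalk x) (F.presheaf.stalk x)) :=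
    subsingleton_of_forall_eq 0 fun t => by
      induction t using TensorProduct.induction_on with
      | zero => rfl
      | tmul a b => rw [Subsingleton.elim a 0, TensorProduct.zero_tmul]
      | add a b ha hb => rw [ha, hb, add_zero]
  exact hx (@Equiv.subsingleton _ _ (KFlatLib.stalkTensorIso x E F).symm.toLinearEquiv.toEquiv hT)

/-- Multiplication by a section is an isomorphism on modules supported where it generates. -/
theorem isIso_mulSec {A M : X.Modules} (s : Coh.structureModule X ⟶ A)
    (h : CohB1.support M ⊆ (CohB1.genLocus A s : Set X)) : IsIso (AmpleVan.mulSec (InvX.one s) M) := by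
  have hall : ∀ x : X, IsIso ((DerSch.stalkFunctor X x).map (AmpleVan.mulSec (InvX.one s) M)) := fun x => by
    by_cases hx : x ∈ CohB1.genLocus A s
    · exact VolLib.isoOn_mulSec s M x hx
    · have h1 : x ∉ CohB1.support M := fun h' => hx (h h')
      exact ⟨0, (Snapper.notMem_support_iff.1 h1).eq_of_src _ _,
        (Snapper.notMem_support_iff.1 (fun h' => h1 (support_tensor_left h'))).eq_of_src _ _⟩
  haveI : Mono (AmpleVan.mulSec (InvX.one s) M) := Preadditive.mono_of_isZero_kernel _
    (CurveCohLib.isZero_of_subsingleton_stalks fun x =>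
      haveI := hall x
      not_not.1 (Snapper.notMem_support_kernel _ inferInstance))
  haveI : Epi (AmpleVan.mulSec (InvX.one s) M) := Preadditive.epi_of_isZero_cokernel _
    (CurveCohLib.isZero_of_subsingleton_stalks fun x =>
      haveI := hall x
      not_not.1 (Snapper.notMem_support_cokernel _ inferInstance))
  exact isIso_of_mono_of_epi _

variable {k : Type u} [Field k] [X.Over (Spec (CommRingCat.of k))] [IsProper (X ↘ Spec (CommRingCat.of k))]

/-- Surjectivity on sections survives multiplication by a section which is invertible on the quotient. -/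
theorem surjective_tw {A : X.Modules} (s : Coh.structureModule X ⟶ A) {M Q : X.Modules} (g : M ⟶ Q)
    (h : CohB1.support Q ⊆ (CohB1.genLocus A s : Set X))
    (hg : Function.Surjective (PnCoh.Finite.mapLin k g 0)) :
    Function.Surjective (PnCoh.Finite.mapLin k ((AmpleVan.tw A).map g) 0) := by
  haveI := isIso_mulSec s h
  intro y
  obtain ⟨z, hz⟩ := (S2926.hhIso k (asIso (AmpleVan.mulSec (InvX.one s) Q)) 0).surjective y
  obtain ⟨w, rfl⟩ := hg z
  refine ⟨PnCoh.Finite.mapLin k (AmpleVan.mulSec (InvX.one s) M) 0 w, ?_⟩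
  rw [← hz]
  have e := LerayEuler.mapLin_comp k (AmpleVan.mulSec (InvX.one s) M) ((AmpleVan.tw A).map g)
    (g ≫ AmpleVan.mulSec (InvX.one s) Q) (AmpleVan.mulSec_naturality (InvX.one s) g).symm 0
  have e' := LerayEuler.mapLin_comp k g (AmpleVan.mulSec (InvX.one s) Q) _ rfl 0
  first
    | exact (e w).trans (e' w).symm
    | exact (DFunLike.congr_fun e w).trans (DFunLike.congr_fun e' w).symm

theorem surjective_of_finrank {S : ShortComplex X.Modules} (hS : S.ShortExact)
    (hfin : Module.Finite k (Coh.HH X S.X₂ 0)) (hfin' : Module.Finite k (Coh.HH X S.X₃ 0))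
    (h : Module.finrank k (Coh.HH X S.X₂ 0) =
      Module.finrank k (Coh.HH X S.X₁ 0) + Module.finrank k (Coh.HH X S.X₃ 0)) :
    Function.Surjective (PnCoh.Finite.mapLin k S.g 0) := by
  have h1 := LinearMap.finrank_range_add_finrank_ker (PnCoh.Finite.mapLin k S.g 0)
  rw [CurveCohLib.ker_mapLin_g k hS 0,
    LinearMap.finrank_range_of_inj (CurveCohLib.mapLin_f_zero_injective (A := k) hS)] at h1
  exact LinearMap.range_eq_top.1 (Submodule.eq_top_of_finrank_eq (by omega))

theorem injective_h1 {S : ShortComplex X.Modules} (hS : S.ShortExact)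
    (hg : Function.Surjective (PnCoh.Finite.mapLin k S.g 0)) (h2 : Subsingleton (Coh.HH X S.X₂ 1)) :
    Subsingleton (Coh.HH X S.X₁ 1) := by
  refine subsingleton_of_forall_eq 0 fun y => ?_
  obtain ⟨x, hx⟩ := (CurveCohLib.ker_mapLin_f_succ (A := k) hS 0).le
    (LinearMap.mem_ker.2 (Subsingleton.elim _ 0) : y ∈ _)
  obtain ⟨w, rfl⟩ := hg x
  rw [← hx]
  exact LinearMap.mem_ker.1 ((CurveCohLib.ker_deltaLin (A := k) hS 0).ge ⟨w, rfl⟩)

/-- The twisted restriction sequences. -/
theorem exists_seq {D : X.IdealSheafData} {L A : X.Modules} (hL : PicF.IsInvertible L)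
    (hA : PicF.IsInvertible A) (s : Coh.structureModule X ⟶ A)
    (hs : (D.support : Set X) ⊆ (CohB1.genLocus A s : Set X))
    (hres : Module.finrank k (Coh.HH X L 0) =
      Module.finrank k (Coh.HH X (CohB1.tensorMod L (ClSub.idealMod D)) 0) +
        Module.finrank k (Coh.HH X (CohB1.tensorMod (ClSub.quotMod D) L) 0)) :
    ∀ n : ℕ, ∃ S : ShortComplex X.Modules, S.ShortExact ∧
      PicF.cl S.X₁ = PicF.cl L * PicF.cl (ClSub.idealMod D) * PicF.cl A ^ n ∧
      PicF.cl S.X₂ = PicF.cl L * PicF.cl A ^ n ∧ CohB1.support S.X₃ ⊆ (D.support : Set X) ∧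
      Function.Surjective (PnCoh.Finite.mapLin k S.g 0) := by
  haveI := CurveCohLib.isNoetherian_of_proper (k := k) (X := X)
  intro n
  induction n with
  | zero =>
    obtain ⟨h, hses⟩ := VolLib.ses_tw hL (IntSym.shortExact_toSubscheme D)
    have h1 : PicF.cl (CohB1.tensorMod (ClSub.idealMod D) L) =
        PicF.cl L * PicF.cl (ClSub.idealMod D) * PicF.cl A ^ 0 := by rw [pow_zero, mul_one, cl_tensor, mul_comm]
    have h2 : PicF.cl (CohB1.tensorMod (Coh.structureModule X) L) = PicF.cl L * PicF.cl A ^ 0 := by
      rw [pow_zero, mul_one, cl_tensor, ← H23.PicMul.one_def, one_mul]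
    refine ⟨_, hses, h1, h2, support_tensor_left.trans (SurfRR.support_quotMod D).le, ?_⟩
    refine surjective_of_finrank hses (CurveCohLib.finite_HH (AmpleVan.isCoh_tensor QCoh.isCoh_structureModule'
        (AmpleVan.isCoh_invertible hL)) 0)
      (CurveCohLib.finite_HH (AmpleVan.isCoh_tensor (ParShLib.isCoh_quotMod D) (AmpleVan.isCoh_invertible hL)) 0) ?_
    have e2 := (S2926.hhIso k (CurveTensor.structureTensorIso L) 0).finrank_eq
    have e1 : Module.finrank k (Coh.HH X (CohB1.tensorMod (ClSub.idealMod D) L) 0) =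
        Module.finrank k (Coh.HH X (CohB1.tensorMod L (ClSub.idealMod D)) 0) :=
      (S2926.hhIso k (H23.PicMul.comm _ _).some 0).finrank_eq
    exact e2.trans (hres.trans (congrArg (· + _) e1.symm))
  | succ n ih =>
    obtain ⟨S, hS, e1, e2, e3, hg⟩ := ih
    obtain ⟨h, hses⟩ := VolLib.ses_tw hA hS
    have h1 : PicF.cl (CohB1.tensorMod S.X₁ A) =
        PicF.cl L * PicF.cl (ClSub.idealMod D) * PicF.cl A ^ (n + 1) := by
      rw [cl_tensor, e1, pow_succ, ← mul_assoc]
    have h2 : PicF.cl (CohB1.tensorMod S.X₂ A) = PicF.cl L * PicF.cl A ^ (n + 1) := by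
      rw [cl_tensor, e2, pow_succ, ← mul_assoc]
    exact ⟨_, hses, h1, h2, support_tensor_left.trans e3, surjective_tw s S.g (e3.trans hs) hg⟩

end Groth.Agent.PlaneBlowUp
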