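import Groth.Agent.PlaneBlowUp.Line
import Groth.Agent.PointBlowUp.Transfer
import Groth.Agent.ContractUP.Main
import Groth.Agent.LerayEuler.Pullback
import Groth.Agent.QCoh.RpushStalk
import Groth.Agent.ExtShX.PnLocal
import Groth.Agent.RefX2.Normality
import Groth.Agent.ZarConn.AppIso
import Groth.Agent.DerBC7.SplitPush
import Groth.Agent.S1623
import Groth.Agent.S1680

/-! The Euler characteristic of the structure sheaf of a blown-up plane. -/

noncomputable section

set_option autoImplicit false
set_option linter.style.haveILetI false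
set_option linter.unusedSectionVars false
set_option backward.isDefEq.respectTransparency false
set_option backward.isDefEq.respectTransparency.types false
set_option maxHeartbeats 1000000

universe u
open CategoryTheory CategoryTheory.Limits AlgebraicGeometry TopologicalSpace IsLocalRing
open Surf
open Groth.Agent.H23.PicMul (cl_tensor cl_eq_iff)

namespace Groth.Agent.PlaneBlowUp

variable {Y : Scheme.{u}}

/-- The reduced ideal of a closed set which is a point near `y` becomes the maximal ideal. -/
theorem comap_vanishingIdeal_local (Z : Closeds Y) (y : Y) (W : Y.Opens) (hyW : y ∈ W)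
    (hW : (Z : Set Y) ∩ W = {y}) :
    (Scheme.IdealSheafData.vanishingIdeal Z).comap (Y.fromSpecStalk y) =
      Curv2.idealSheaf (Y.presheaf.stalk y) (maximalIdeal (Y.presheaf.stalk y)) := by
  let J := Scheme.IdealSheafData.vanishingIdeal Z
  have hst : Div21Lib.st J y = maximalIdeal (Y.presheaf.stalk y) := by
    obtain ⟨U, hU, hyU, hUW⟩ := exists_isAffineOpen_mem_and_subset hyW
    rw [Div21Lib.st_eq J ⟨U, hU⟩ hyU, CDivEq.stk]
    have hp : J.ideal ⟨U, hU⟩ = (IsAffineOpen.primeIdealOf hU ⟨y, hyU⟩).asIdeal := by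
      rw [Scheme.IdealSheafData.vanishingIdeal_ideal, ← PrimeSpectrum.vanishingIdeal_singleton]
      congr 1
      ext q
      constructor
      · intro hq
        have hq' : (IsAffineOpen.fromSpec hU) q = y := hW.le
          ⟨hq, hUW ((IsAffineOpen.range_fromSpec hU).le ⟨q, rfl⟩)⟩
        exact (IsAffineOpen.fromSpec hU).isOpenEmbedding.injective
          (hq'.trans (IsAffineOpen.fromSpec_primeIdealOf hU ⟨y, hyU⟩).symm)
      · intro hq
        show (IsAffineOpen.fromSpec hU) q ∈ (Z : Set Y)
        rw [show q = _ from hq, IsAffineOpen.fromSpec_primeIdealOf hU ⟨y, hyU⟩]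
        exact (hW.ge rfl).1
    rw [hp]
    letI := TopCat.Presheaf.algebra_section_stalk Y.presheaf (⟨y, hyU⟩ : U)
    haveI := IsAffineOpen.isLocalization_stalk hU ⟨y, hyU⟩
    exact IsLocalization.AtPrime.map_eq_maximalIdeal _ (Y.presheaf.stalk y)
  refine Scheme.IdealSheafData.ext_of_isAffine ?_
  rw [Div21Lib.ideal_comap_fromSpecStalk, hst, Curv2.idealSheaf, Scheme.IdealSheafData.ofIdealTop_ideal]
  erw [(Spec (Y.presheaf.stalk y)).presheaf.map_id, Ideal.map_id]
  rfl

variable {k : Type u} [Field k] {X : Scheme.{u}} [X.Over (Spec (CommRingCat.of k))]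
  [IsProper (X ↘ Spec (CommRingCat.of k))]

/-- Blowing up finitely many points of the plane does not change `χ(O)`. -/
theorem euler_structure [IsIntegral X]
    (σ : X ⟶ CohB1.ProjSpace 2 k) (hσk : σ ≫ CohB1.ProjSpace.toSpec 2 k = X ↘ (Spec (CommRingCat.of k)))
    {S : Set (CohB1.ProjSpace 2 k)} (hS : S.Finite) (hSc : ∀ y ∈ S, IsClosed ({y} : Set (CohB1.ProjSpace 2 k)))
    (hZ : IsClosed S) (hσ : BlowUp.IsBlowUp σ (Scheme.IdealSheafData.vanishingIdeal ⟨S, hZ⟩)) :
    Curv2.euler k X (Coh.structureModule X) = 1 := by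
  haveI : IsProper ((CohB1.ProjSpace 2 k) ↘ Spec (CommRingCat.of k)) := PnCoh.Chow.isProper_toSpec 2 k
  haveI : IsNoetherian (CohB1.ProjSpace 2 k) := CurveCohLib.isNoetherian_of_proper (k := k)
  haveI := H23.PnChart.isIntegral_projSpace 2 k
  haveI := CurveCohLib.isNoetherian_of_proper (k := k) (X := X)
  haveI : HasInjectiveResolutions X.Modules := KFlatLib.hasInjectiveResolutions_modules
  have hσk' : σ ≫ ((CohB1.ProjSpace 2 k) ↘ Spec (CommRingCat.of k)) = X ↘ Spec (CommRingCat.of k) := hσk
  haveI := LerayEuler.isProper_f k σ hσk'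
  have hreg : ∀ y : CohB1.ProjSpace 2 k, IsRegularLocalRing ((CohB1.ProjSpace 2 k).presheaf.stalk y) := fun y =>
    ExtShX.isRegularLocalRing_stalk_pn (k := k) (r := 2) y
  set U : (CohB1.ProjSpace 2 k).Opens := (Scheme.IdealSheafData.vanishingIdeal ⟨S, hZ⟩).support.compl
  haveI : IsIso (σ ∣_ U) := BlowUpX.isIso_restrict hσ
  have hU : ∀ x, x ∈ U ↔ x ∉ S := fun x => not_congr (Set.ext_iff.1 (by simp) x)
  -- generic points
  have hηS : genericPoint (CohB1.ProjSpace 2 k) ∉ S := by
    intro h
    have h1 : (Set.univ : Set (CohB1.ProjSpace 2 k)) ⊆ {genericPoint (CohB1.ProjSpace 2 k)} := fun z _ =>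
      ((genericPoint_spec _).specializes trivial).mem_closed (hSc _ h) rfl
    haveI : Subsingleton (CohB1.ProjSpace 2 k) := ⟨fun a b => (h1 trivial).trans (h1 trivial).symm⟩
    have h2 := ExtShX.ringKrullDim_stalk_pn (k := k) (r := 2) (hSc _ h)
    haveI : IsField ((CohB1.ProjSpace 2 k).presheaf.stalk (genericPoint (CohB1.ProjSpace 2 k))) :=
      Field.toIsField ((CohB1.ProjSpace 2 k).functionField)
    rw [ringKrullDim_eq_zero_of_isField this] at h2
    exact absurd h2 (by decide)
  have hηU := (hU _).2 hηS
  obtain ⟨z, hz⟩ := (σ ∣_ U).homeomorph.surjective ⟨_, hηU⟩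
  have hzv : σ z.1 = genericPoint (CohB1.ProjSpace 2 k) := by
    have := congrArg Subtype.val hz
    simpa [morphismRestrict_base] using this
  have hgen : σ (genericPoint X) = genericPoint (CohB1.ProjSpace 2 k) := by
    refine ((genericPoint_spec (CohB1.ProjSpace 2 k)).eq ?_).symm
    have h1 : σ (genericPoint X) ⤳ σ z.1 := ((genericPoint_spec X).specializes trivial).map σ.continuous
    rw [hzv] at h1
    exact isGenericPoint_iff_specializes.2 fun y =>
      ⟨fun _ => trivial, fun _ => h1.trans ((genericPoint_spec _).specializes trivial)⟩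
  have hηX : genericPoint X ∈ σ ⁻¹ᵁ U := by show σ _ ∈ U; rw [hgen]; exact hηU
  have hbir : IsIso (σ.stalkMap (genericPoint X)) := by
    have h1 : IsIso ((σ ∣_ U).stalkMap ⟨genericPoint X, hηX⟩) := inferInstance
    exact ((MorphismProperty.isomorphisms CommRingCat).arrow_mk_iso_iff
      (morphismRestrictStalkMap σ U ⟨genericPoint X, hηX⟩)).1 h1
  have happ : ∀ V, IsIso (σ.app V) := ZarConn.isIso_app_of_birational
    (RefX2.isNormalScheme_of_regular hreg) σ hgen hbir
  haveI := DerBC7.isIso_unitToPush σ happ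
  -- the higher direct images vanish
  have hvan : ∀ i, IsZero ((Coh.Rpush σ (i + 1)).obj (Coh.structureModule X)) := by
    intro i
    refine CurveCohLib.isZero_of_subsingleton_stalks fun y => ?_
    let A := (CohB1.ProjSpace 2 k).presheaf.stalk y
    let g := (CohB1.ProjSpace 2 k).fromSpecStalk y
    haveI : Flat g := S4366.flat_fromSpecStalk y
    letI : (pullback g σ).Over (Spec (CommRingCat.of A)) := ⟨pullback.fst g σ⟩
    obtain ⟨e⟩ := QCoh.nonempty_stalk_HH σ (F := Coh.structureModule X) QCoh.isQCoh_structureModule y (i + 1)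
      (pullback g σ) (pullback.snd g σ) (IsPullback.of_hasPullback g σ).flip
    suffices h : Subsingleton (Coh.HH (pullback g σ) (Coh.structureModule (pullback g σ)) (i + 1)) by
      haveI := QCoh.subsingleton_HH_of_iso (CurveBC.unitIso (pullback.snd g σ)).symm (i + 1) h
      exact e.toEquiv.subsingleton
    haveI := hreg y
    by_cases hy : y ∈ S
    · have hdimA : ringKrullDim A = 2 := by
        rw [ExtShX.ringKrullDim_stalk_pn (k := k) (r := 2) (hSc y hy)]; rfl
      have hbl := S1680.result g _ σ hσ
      have hW : IsClosed (S \ {y}) := by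
        rw [← Set.biUnion_of_singleton (S \ {y})]
        exact (hS.subset Set.sdiff_subset).isClosed_biUnion fun z hz => hSc z hz.1
      rw [comap_vanishingIdeal_local ⟨S, hZ⟩ y ⟨(S \ {y})ᶜ, hW.isOpen_compl⟩ (fun h => h.2 rfl) (by
        ext w
        constructor
        · rintro ⟨h1, h2⟩
          by_contra hne
          exact h2 ⟨h1, hne⟩
        · rintro rfl
          exact ⟨hy, fun h => h.2 rfl⟩)] at hbl
      cases i with
      | zero => exact (PointBlowUp.main A hdimA (pullback.fst g σ) hbl).2.2.2.2
      | succ i => exact S1623.result A hdimA (pullback g σ) (pullback.fst g σ) hbl _ QCoh.isQCoh_structureModule (i + 1 + 1) (by omega)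
    · have hr : Set.range g ⊆ Set.range U.ι := by
        rw [Scheme.range_fromSpecStalk, Scheme.Opens.range_ι]
        exact fun w hw => hw.mem_open U.isOpen ((hU y).2 hy)
      let g' := IsOpenImmersion.lift U.ι g hr
      have hg' : g' ≫ U.ι = g := IsOpenImmersion.lift_fac _ _ _
      have hsq := (IsPullback.of_hasPullback g' (σ ∣_ U)).paste_vert
        (isPullback_morphismRestrict σ U)
      rw [hg'] at hsq
      haveI : IsIso (pullback.fst g σ) := by
        rw [← hsq.isoPullback_inv_fst]; infer_instance
      haveI : IsAffine (pullback g σ) := IsAffine.of_isIso (pullback.fst g σ)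
      exact QCoh.subsingleton_HH_of_isAffine QCoh.isQCoh_structureModule i
  rw [LerayEuler.euler_eq k σ hσk' (Coh.structureModule X) QCoh.isCoh_structureModule', finsum_eq_single _ 0 ?_]
  · haveI := SpObjSS.enoughInjectives_of_hasInjectiveResolutions (C := X.Modules)
    haveI := QCoh.preservesFiniteLimits_push σ
    rw [pow_zero, one_mul, CurveCohLib.euler_congr
      ((Scheme.Modules.pushforward σ).rightDerivedZeroIsoSelf.app (Coh.structureModule X))]
    have e0 := CurveCohLib.euler_congr (k := k) (asIso (ClSub.unitToPush σ))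
    refine e0.symm.trans ?_
    have h1 := euler_plane (k := k) 0
    rw [CurveCohLib.euler_congr (cl_eq_iff.1 cl_twist_zero).some] at h1
    exact h1.trans (by decide)
  · intro i hi
    obtain ⟨j, rfl⟩ : ∃ j, i = j + 1 := ⟨i - 1, by omega⟩
    rw [VolLib.euler_of_isZero (k := k) (hvan j), mul_zero]

end Groth.Agent.PlaneBlowUp
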