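import Groth.Agent.PlaneBlowUp.Line
import Groth.Agent.AVIndex.Mumford
import Groth.Agent.LerayEuler.Pullback
import Groth.Agent.NormX.RelVanishing
import Groth.Agent.FibVanish.QCoh
import Groth.Agent.KRR7.Proj
import Groth.Agent.P1Split.Basic
import Groth.Agent.KFlatLib.Scheme.ProjLocFree
import Groth.Agent.S0462

/-! Surfaces fibred over the line: cohomology through the direct image. -/

noncomputable section

set_option autoImplicit false
set_option linter.style.haveILetI false
set_option linter.unusedSectionVars false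
set_option backward.isDefEq.respectTransparency false
set_option backward.isDefEq.respectTransparency.types false
set_option maxHeartbeats 1000000

universe u
open CategoryTheory CategoryTheory.Limits AlgebraicGeometry TopologicalSpace
open Surf
open scoped Groth.Agent.H23.PicMul
open Groth.Agent.H23.PicMul (cl_tensor cl_eq_iff)

namespace Groth.Agent.PlaneBlowUp

/-- Cohomology is that of the direct image when the higher direct images vanish. -/
theorem nonempty_HH_push {X S : Scheme.{u}} (f : X ⟶ S) [HasInjectiveResolutions X.Modules] {M : X.Modules}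
    (hR : ∀ i : ℕ, IsZero ((Coh.Rpush f (i + 1)).obj M)) (p : ℕ) :
    Nonempty (Coh.HH X M p ≃+ Coh.HH S ((Coh.push f).obj M) p) := by
  have hz : ∀ i : ℕ, Limits.IsZero ((Coh.RpushAb f (i + 1)).obj (Coh.toAb M)) := fun i => by
    obtain ⟨e'⟩ := QCoh.nonempty_Rpush_iso f M i
    obtain ⟨e''⟩ := QCoh.nonempty_RpushAb_iso f M i
    exact Limits.IsZero.of_iso ((SheafOfModules.toSheaf S.ringCatSheaf).map_isZero (Limits.IsZero.of_iso (hR i) e'.symm)) e''
  exact LerayDegen.H_push f.base (Coh.toAb M) hz p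

/-- A proper map with fibres of dimension at most one has no higher direct images beyond the first. -/
theorem isZero_Rpush_two {X S : Scheme.{u}} (f : X ⟶ S) [IsProper f] [IsNoetherian S]
    [HasInjectiveResolutions X.Modules] [JacobsonSpace S]
    (hfib : ∀ y : S, IsClosed ({y} : Set S) → topologicalKrullDim ↥(f ⁻¹' {y}) ≤ (1 : ℕ))
    {M : X.Modules} (hM : Coh.IsQCoh M) (i : ℕ) : IsZero ((Coh.Rpush f (i + 2)).obj M) := by
  refine (NormX.isZero_Rpush_iff f hM (i + 2)).2 fun V => ?_
  haveI : IsNoetherianRing Γ(S, V.1) := IsLocallyNoetherian.component_noetherian V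
  letI : ((f ⁻¹ᵁ V.1 : X.Opens) : Scheme.{u}).Over (Spec (CommRingCat.of Γ(S, V.1))) := ⟨QCoh.overSpec f V.2⟩
  haveI : IsProper (((f ⁻¹ᵁ V.1 : X.Opens) : Scheme.{u}) ↘ Spec (CommRingCat.of Γ(S, V.1))) := by
    show IsProper ((f ∣_ V.1) ≫ V.2.isoSpec.hom)
    infer_instance
  refine FibVanish.subsingleton_HH_qcoh (A := Γ(S, V.1)) (d := 1) (fun y hy => ?_)
    (QCoh.isQCoh_restrict _ hM) (by omega)
  have hcl : IsClosed ({V.2.fromSpec y} : Set S) := by
    refine isClosed_singleton_of_isLocallyClosed_singleton ?_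
    have h := hy.isLocallyClosed.image V.2.fromSpec.isOpenEmbedding.isInducing
      V.2.fromSpec.isOpenEmbedding.isOpen_range.isLocallyClosed
    rwa [Set.image_singleton] at h
  refine le_trans ?_ (hfib (V.2.fromSpec y) hcl)
  let g : ↥((((f ⁻¹ᵁ V.1 : X.Opens) : Scheme.{u}) ↘ Spec (CommRingCat.of Γ(S, V.1))) ⁻¹' {y}) →
      ↥(f ⁻¹' {V.2.fromSpec y}) := fun z => ⟨(f ⁻¹ᵁ V.1).ι z.1, by
    have h := congrArg (fun m : ((f ⁻¹ᵁ V.1 : X.Opens) : Scheme.{u}) ⟶ S => m z.1) (QCoh.overSpec_fromSpec f V.2)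
    have hz : QCoh.overSpec f V.2 z.1 = y := z.2
    simp only [Scheme.Hom.comp_apply, hz] at h
    exact h.symm⟩
  have hg : Topology.IsEmbedding g :=
    Topology.IsEmbedding.of_comp (by fun_prop) continuous_subtype_val
      ((f ⁻¹ᵁ V.1).ι.isOpenEmbedding.isEmbedding.comp Topology.IsEmbedding.subtypeVal)
  exact hg.toIsInducing.topologicalKrullDim_le

variable {k : Type u} [Field k] {X : Scheme.{u}} [X.Over (Spec (CommRingCat.of k))]
  [IsProper (X ↘ Spec (CommRingCat.of k))] [IsIntegral X]

/-- The closed fibres of a surjection from a surface onto the line are curves. -/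
theorem fibre_dim_le (hdim : topologicalKrullDim X = 2) (π : X ⟶ CohB1.ProjSpace 1 k)
    (hπs : Function.Surjective π) (y : CohB1.ProjSpace 1 k) (hy : IsClosed ({y} : Set (CohB1.ProjSpace 1 k))) :
    topologicalKrullDim ↥(π ⁻¹' {y}) ≤ (1 : ℕ) := by
  have hne : ({y} : Set (CohB1.ProjSpace 1 k)) ≠ Set.univ := by
    intro h
    haveI : Subsingleton (CohB1.ProjSpace 1 k) := ⟨fun a b => (h.ge trivial : a ∈ _).trans (h.ge trivial : b ∈ _).symm⟩
    have h1 := P1Split.dim_eq (k := k)
    haveI : Subsingleton (TopologicalSpace.IrreducibleCloseds (CohB1.ProjSpace 1 k)) := ⟨fun A B => by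
      ext z
      obtain ⟨a, ha⟩ := A.2.nonempty
      obtain ⟨b, hb⟩ := B.2.nonempty
      exact ⟨fun _ => Subsingleton.elim b z ▸ hb, fun _ => Subsingleton.elim a z ▸ ha⟩⟩
    have h0 : topologicalKrullDim (CohB1.ProjSpace 1 k) ≤ 0 := Order.krullDim_nonpos_of_subsingleton
    rw [h1] at h0
    exact absurd h0 (by norm_num)
  have hlt := H23.TopDim.dim_lt_of_ssubset (X := X)
    (by rw [hdim]; exact WithBot.coe_inj.not.2 (ENat.natCast_ne_top 2))
    (Y := π ⁻¹' {y}) (hy.preimage π.continuous) fun h => hne (by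
      ext w
      exact ⟨fun _ => trivial, fun _ => by
        obtain ⟨z, rfl⟩ := hπs w
        exact (h.ge trivial : z ∈ π ⁻¹' {y})⟩)
  rw [hdim] at hlt
  revert hlt
  generalize topologicalKrullDim ↥(π ⁻¹' {y}) = d
  intro hlt
  induction d with
  | bot => exact bot_le
  | coe d =>
    have h2 : d < 2 := WithBot.coe_lt_coe.1 hlt
    exact WithBot.coe_le_coe.2 (Order.le_of_lt_add_one (by simpa [one_add_one_eq_two] using h2))

end Groth.Agent.PlaneBlowUp
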