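import Groth.Agent.SurfRR.Connected
import Groth.Agent.SurfRR.Curve
import Groth.Agent.VolLib.UnifTools
import Groth.Agent.H23.PicInv

/-! Auxiliary lemmas for fixed components of linear systems. -/

noncomputable section

set_option autoImplicit false
set_option linter.style.haveILetI false
set_option backward.isDefEq.respectTransparency false
set_option backward.isDefEq.respectTransparency.types false

universe u
open CategoryTheory CategoryTheory.Limits AlgebraicGeometry TopologicalSpace
open Surf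
open scoped Groth.Agent.H23.PicMul
open Groth.Agent.H23.PicMul (cl_tensor cl_eq_iff)

namespace Groth.Agent.PlaneBlowUp

variable {X : Scheme.{u}}

theorem exists_rep {L I : X.Modules} (hL : PicF.IsInvertible L) (hI : PicF.IsInvertible I) :
    ∀ j : ℕ, ∃ P : X.Modules, PicF.IsInvertible P ∧ PicF.cl P = PicF.cl L * PicF.cl I ^ j
  | 0 => ⟨L, hL, by rw [pow_zero, mul_one]⟩
  | j + 1 => by
    obtain ⟨P, hP, e⟩ := exists_rep hL hI j
    exact ⟨CohB1.tensorMod P I, InvX.isInvertible_tensorMod hP hI, by rw [cl_tensor, e, pow_succ, mul_assoc]⟩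

variable (k : Type u) [Field k] [X.Over (Spec (CommRingCat.of k))] [IsProper (X ↘ Spec (CommRingCat.of k))]
  [IsIntegral X]

theorem pair_rep (hdim : topologicalKrullDim X = ((2 : ℕ) : WithBot ℕ∞)) {L I : X.Modules}
    (hL : PicF.IsInvertible L) (hI : PicF.IsInvertible I) {a : ℤ} :
    ∀ {j : ℕ} {P : X.Modules}, PicF.IsInvertible P → PicF.cl P = PicF.cl L * PicF.cl I ^ j →
      SurfRR.pair k L I = a → SurfRR.pair k I I = -1 → SurfRR.pair k P I = a - (j : ℤ)
  | 0, P, hP, e, h, _ => by
    rw [pow_zero, mul_one] at e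
    rw [SurfRR.pair_congr k e hI, h]; simp
  | j + 1, P, hP, e, h, h' => by
    obtain ⟨Q, hQ, eQ⟩ := exists_rep hL hI j
    rw [SurfRR.pair_congr k (show PicF.cl P = PicF.cl (CohB1.tensorMod Q I) by
      rw [cl_tensor, e, eQ, pow_succ, mul_assoc]) hI, SurfRR.pair_tensor k hdim.le hQ hI hI,
      pair_rep hdim hL hI hQ eQ h h', h']
    push_cast; ring

omit [IsIntegral X] in
theorem finrank_eq_of_shortExact {S : ShortComplex X.Modules} (hS : S.ShortExact)
    (h3 : Subsingleton (Coh.HH X S.X₃ 0)) :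
    Module.finrank k (Coh.HH X S.X₁ 0) = Module.finrank k (Coh.HH X S.X₂ 0) :=
  (LinearEquiv.ofBijective _ ⟨CurveCohLib.mapLin_f_zero_injective (A := k) hS, fun y => by
    obtain ⟨x, hx⟩ := (CurveCohLib.ker_mapLin_g k hS 0).le
      (LinearMap.mem_ker.2 (Subsingleton.elim _ 0) : y ∈ _)
    exact ⟨x, hx⟩⟩).finrank_eq

omit [IsIntegral X] in
theorem finrank_eq_tw {B : X.Modules} (hB : PicF.IsInvertible B) {S : ShortComplex X.Modules} (hS : S.ShortExact)
    (h3 : Subsingleton (Coh.HH X ((AmpleVan.tw B).obj S.X₃) 0)) :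
    Module.finrank k (Coh.HH X ((AmpleVan.tw B).obj S.X₁) 0) =
      Module.finrank k (Coh.HH X ((AmpleVan.tw B).obj S.X₂) 0) := by
  obtain ⟨h, hses⟩ := VolLib.ses_tw hB hS
  exact finrank_eq_of_shortExact k (S := ShortComplex.mk _ _ h) hses h3

/-- An integral curve of negative degree for `B` is a fixed component of `|B|`. -/
theorem h0_step [IsAlgClosed k] {C : X.IdealSheafData} (hC : IsIntegral C.subscheme)
    (hC1 : topologicalKrullDim (C.support : Set X) = 1) {B B' : X.Modules} (hB : PicF.IsInvertible B)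
    (hdeg : IntSym.sym k [B] (ClSub.quotMod C) < 0)
    (e : PicF.cl B' = PicF.cl (ClSub.idealMod C) * PicF.cl B) :
    Module.finrank k (Coh.HH X B' 0) = Module.finrank k (Coh.HH X B 0) := by
  haveI := CurveCohLib.isNoetherian_of_proper (k := k) (X := X)
  rcases SurfRR.h0_curve k hC hC1 hB hdeg.le with h0 | ⟨h0, -⟩
  swap
  · omega
  have hq : Coh.IsCoh (CohB1.tensorMod (ClSub.quotMod C) B) :=
    AmpleVan.isCoh_tensor (ParShLib.isCoh_quotMod C) (AmpleVan.isCoh_invertible hB)
  haveI := CurveCohLib.finite_HH (k := k) hq 0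
  have h3 : Subsingleton (Coh.HH X (CohB1.tensorMod (ClSub.quotMod C) B) 0) := (Module.finrank_zero_iff (R := k)).1 h0
  have hbij := finrank_eq_tw (k := k) hB
    (S := ShortComplex.mk (ClSub.idealModι C) (ClSub.toSubscheme C) (kernel.condition _))
    (IntSym.shortExact_toSubscheme C) h3
  obtain ⟨e1⟩ : Nonempty (B' ≅ CohB1.tensorMod (ClSub.idealMod C) B) := cl_eq_iff.1 (by rw [cl_tensor, e])
  rw [(S2926.hhIso k e1 0).finrank_eq]
  exact hbij.trans (S2926.hhIso k (CurveTensor.structureTensorIso B) 0).finrank_eq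

end Groth.Agent.PlaneBlowUp
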