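import Groth.Agent.PlaneBlowUp.Descent
import Groth.Agent.PlaneBlowUp.Fixed
import Groth.Agent.CurveEmbed.Points
import Groth.Agent.RefX2.Normality
import Groth.Agent.ExtShX.PnLocal
import Groth.Agent.S15922
import Groth.Agent.AmpleVan.Uniform
import Groth.Agent.QCoh.RpushProper
import Groth.Agent.P1Split.Basic

/-! Fibres over the line and the twisting sheaf. -/

noncomputable section

set_option autoImplicit false
set_option linter.style.haveILetI false
set_option linter.unusedSectionVars false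
set_option backward.isDefEq.respectTransparency false
set_option backward.isDefEq.respectTransparency.types false
set_option maxHeartbeats 1000000

universe u
open CategoryTheory CategoryTheory.Limits AlgebraicGeometry TopologicalSpace
open Surf
open scoped Groth.Agent.H23.PicMul
open Groth.Agent.H23.PicMul (cl_tensor cl_eq_iff)

namespace Groth.Agent.PlaneBlowUp

variable {k : Type u} [Field k] [IsAlgClosed k]

/-- A closed point of the line is a divisor of class `O(-1)`. -/
theorem line_point (q : CohB1.ProjSpace 1 k) (hq : IsClosed ({q} : Set (CohB1.ProjSpace 1 k))) :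
    BlowUp.IsEffCartierIdeal (Scheme.IdealSheafData.vanishingIdeal ⟨{q}, hq⟩) ∧
      PicF.cl (ClSub.idealMod (Scheme.IdealSheafData.vanishingIdeal ⟨{q}, hq⟩)) =
        PicF.cl (Twist.twistProjSpace 1 k (-1)) := by
  have hd : topologicalKrullDim (CohB1.ProjSpace 1 k) = 1 := P1Split.dim_eq k
  haveI := ExtShX.isRegularLocalRing_stalk_pn (k := k) (r := 1) q
  haveI := RegLoc6.isIntegrallyClosed_of_isRegularLocalRing ((CohB1.ProjSpace 1 k).presheaf.stalk q)
  have hI := CurveEmbed.isInvertible_point k hd hq inferInstance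
  have hdeg := (S15922.result k (CohB1.ProjSpace 1 k) (fun Z hZ => by
    rw [irreducibleComponents_eq_singleton, Set.mem_singleton_iff] at hZ
    subst hZ
    rw [← hd]
    exact (Homeomorph.Set.univ _).isHomeomorph.topologicalKrullDim_eq) q hq).2.2
  refine ⟨CurveEmbed.isEffCartier_point k hd hq inferInstance, cl_eq_iff.2 ?_⟩
  have h := P1Split.nonempty_iso_T k hI
  rwa [show Curv2.deg k (CohB1.ProjSpace 1 k) _ 1 = -1 from hdeg] at h

theorem cl_T_add (a b : ℤ) :
    PicF.cl (Twist.twistProjSpace 1 k a) * PicF.cl (Twist.twistProjSpace 1 k b) =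
      PicF.cl (Twist.twistProjSpace 1 k (a + b)) := by
  rw [← cl_tensor]
  exact cl_eq_iff.2 (P1Split.nonempty_tensor_iso k a b (a + b) rfl)

theorem cl_T_zero :
    PicF.cl (Twist.twistProjSpace 1 k 0) = 1 := cl_eq_iff.2 (P1Split.nonempty_T_zero k)

theorem cl_T_one_mul : PicF.cl (Twist.twistProjSpace 1 k (-1)) * PicF.cl (Twist.twistProjSpace 1 k 1) = 1 := by
  rw [cl_T_add, show (-1 : ℤ) + 1 = 0 from by norm_num, cl_T_zero]

/-- A section of `O(1)` not vanishing at `q`. -/
theorem exists_line_section (q : CohB1.ProjSpace 1 k) :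
    ∃ t : Coh.structureModule (CohB1.ProjSpace 1 k) ⟶ Twist.twistProjSpace 1 k 1,
      q ∈ CohB1.genLocus (Twist.twistProjSpace 1 k 1) t := by
  obtain ⟨r, s, hs⟩ := gen_twist_one (k := k) 1
  obtain ⟨l, hl⟩ := hs q
  exact ⟨s l, hl⟩

variable {X : Scheme.{u}} [X.Over (Spec (CommRingCat.of k))] [IsProper (X ↘ Spec (CommRingCat.of k))]
  [IsIntegral X]

/-- Vanishing of `H¹` of `L` and of its negative twist by a fibre. -/
theorem h1_vanish (hdim : topologicalKrullDim X = 2) [HasInjectiveResolutions X.Modules]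
    (π : X ⟶ CohB1.ProjSpace 1 k) (hπk : π ≫ CohB1.ProjSpace.toSpec 1 k = X ↘ (Spec (CommRingCat.of k)))
    (hπs : Function.Surjective π) (L : X.Modules) (hL : PicF.IsInvertible L)
    (hR1 : IsZero ((Coh.Rpush π 1).obj L))
    (q : CohB1.ProjSpace 1 k) (hq : IsClosed ({q} : Set (CohB1.ProjSpace 1 k)))
    (hres : Module.finrank k (Coh.HH X L 0) =
      Module.finrank k (Coh.HH X (CohB1.tensorMod L (ClSub.idealMod ((Scheme.IdealSheafData.vanishingIdeal ⟨{q}, hq⟩).comap π))) 0) +
        Module.finrank k (Coh.HH X (CohB1.tensorMod (ClSub.quotMod ((Scheme.IdealSheafData.vanishingIdeal ⟨{q}, hq⟩).comap π)) L) 0)) :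
    Subsingleton (Coh.HH X L 1) ∧ Subsingleton (Coh.HH X (CohB1.tensorMod L (ClSub.idealMod ((Scheme.IdealSheafData.vanishingIdeal ⟨{q}, hq⟩).comap π))) 1) ∧
      Subsingleton (Coh.HH (CohB1.ProjSpace 1 k) (CohB1.tensorMod ((Coh.push π).obj L) (Twist.twistProjSpace 1 k (-1))) 1) := by
  haveI : IsProper ((CohB1.ProjSpace 1 k) ↘ Spec (CommRingCat.of k)) := PnCoh.Chow.isProper_toSpec 1 k
  haveI := CurveCohLib.isNoetherian_of_proper (k := k) (X := X)
  haveI : IsNoetherian (CohB1.ProjSpace 1 k) := CurveCohLib.isNoetherian_of_proper (k := k)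
  haveI : LocallyOfFiniteType ((CohB1.ProjSpace 1 k) ↘ Spec (CommRingCat.of k)) := inferInstance
  haveI : JacobsonSpace (CohB1.ProjSpace 1 k) :=
    LocallyOfFiniteType.jacobsonSpace ((CohB1.ProjSpace 1 k) ↘ Spec (CommRingCat.of k))
  haveI := LerayEuler.isProper_f k π (show π ≫ ((CohB1.ProjSpace 1 k) ↘ Spec (CommRingCat.of k)) =
    X ↘ Spec (CommRingCat.of k) from hπk)
  set D := (Scheme.IdealSheafData.vanishingIdeal ⟨{q}, hq⟩).comap π with hDdef
  obtain ⟨hqc, hqcl⟩ := line_point q hq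
  obtain ⟨t, ht⟩ := exists_line_section q
  have hT : PicF.IsInvertible (Twist.twistProjSpace 1 k 1) := P1Split.isInvertible_T k 1
  set A := (Scheme.Modules.pullback π).obj (Twist.twistProjSpace 1 k 1) with hAdef
  have hA : PicF.IsInvertible A := PicClLib.isInvertible_pullback π hT
  let s : Coh.structureModule X ⟶ A := (CurveBC.unitIso π).inv ≫ (Scheme.Modules.pullback π).map t
  have hs : ∀ x, π x = q → x ∈ CohB1.genLocus A s := fun x hx => by
    show x ∈ CohB1.genLocus ((Scheme.Modules.pullback π).obj (Twist.twistProjSpace 1 k 1))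
      ((CurveBC.unitIso π).symm.hom ≫ (Scheme.Modules.pullback π).map t)
    rw [InvX.genLocus_pullback π hT]
    show π x ∈ CohB1.genLocus (Twist.twistProjSpace 1 k 1) t
    rw [hx]; exact ht
  have hsupp : (D.support : Set X) ⊆ (CohB1.genLocus A s : Set X) := fun x hx => hs x (by
    rw [hDdef, Scheme.IdealSheafData.support_comap] at hx
    simpa [hq.closure_eq] using hx)
  obtain ⟨z, hz⟩ : ∃ z : X, π z ∉ (Scheme.IdealSheafData.vanishingIdeal ⟨{q}, hq⟩).support := by
    by_contra h
    push Not at h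
    have h1 := fibre_dim_le hdim π hπs q hq
    have h2 : π ⁻¹' {q} = Set.univ := by
      ext x
      exact ⟨fun _ => trivial, fun _ => by
        have := h x
        rw [← SetLike.mem_coe, Scheme.IdealSheafData.coe_support_vanishingIdeal] at this
        exact this⟩
    rw [h2] at h1
    have h3 := ((Homeomorph.Set.univ X).isHomeomorph.topologicalKrullDim_eq).symm.trans_le h1
    rw [hdim] at h3
    exact absurd h3 (by decide)
  have hID := (S8914.result D).2 (isEffCartier_comap π hqc hz)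
  obtain ⟨eD⟩ := CurveAlgEqLib.nonempty_pullback_idealMod π ((S8914.result _).2 hqc) hID
  have hclD : PicF.cl (ClSub.idealMod D) * PicF.cl A = 1 := by
    rw [← cl_tensor]
    refine cl_eq_iff.2 ⟨PicGrp.tensorModIso eD.symm (Iso.refl _) ≪≫ (IntNum.pullTensor π _ _).symm ≪≫
      (Scheme.Modules.pullback π).mapIso (cl_eq_iff.1 ?_).some ≪≫ CurveBC.unitIso π⟩
    rw [cl_tensor, hqcl, cl_T_one_mul]; rfl
  -- vanishing for large twists
  have hO : Coh.IsCoh L := AmpleVan.isCoh_invertible hL
  have hpushL : Coh.IsCoh ((Coh.push π).obj L) := by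
    haveI := SpObjSS.enoughInjectives_of_hasInjectiveResolutions (C := X.Modules)
    haveI := QCoh.preservesFiniteLimits_push π
    have h := LerayEuler.isCoh_R k π (show π ≫ ((CohB1.ProjSpace 1 k) ↘ Spec (CommRingCat.of k)) =
      X ↘ Spec (CommRingCat.of k) from hπk) L hO 0
    exact QCoh.isCoh_of_iso_finite ((Scheme.Modules.pushforward π).rightDerivedZeroIsoSelf.app L).symm h.1
      fun V hV => QCoh.finite_sections h hV
  have hall : ∀ i : ℕ, IsZero ((Coh.Rpush π (i + 1)).obj L) := fun i => by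
    cases i with
    | zero => exact hR1
    | succ i => exact isZero_Rpush_two π (fun y hy => fibre_dim_le hdim π hπs y hy) hO.1 i
  -- cohomology of twists through the direct image
  have htw : ∀ (N : (CohB1.ProjSpace 1 k).Modules), PicF.IsInvertible N → ∀ {M : X.Modules}, PicF.IsInvertible M →
      PicF.cl M = PicF.cl L * PicF.cl ((Scheme.Modules.pullback π).obj N) →
      Nonempty (Coh.HH X M 1 ≃+ Coh.HH (CohB1.ProjSpace 1 k) (CohB1.tensorMod ((Coh.push π).obj L) N) 1) := by
    intro N hN M hM hcl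
    have hNf := H23.PullPush.isFinLocFree_of_isInvertible hN
    have em : Nonempty (CohB1.tensorMod ((Scheme.Modules.pullback π).obj N) L ≅ M) := cl_eq_iff.1 (by
      rw [cl_tensor, hcl, mul_comm])
    obtain ⟨em⟩ := em
    have hz : ∀ i : ℕ, IsZero ((Coh.Rpush π (i + 1)).obj M) := fun i => by
      obtain ⟨e⟩ := KFlatLib.nonempty_rpush_tensor_finLocFree π L N hNf (i + 1)
      exact IsZero.of_iso (KRR7.isZero_tensorMod N (hall i)) ((Coh.Rpush π (i + 1)).mapIso em.symm ≪≫ e.symm)
    obtain ⟨ψ⟩ := nonempty_HH_push π hz 1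
    obtain ⟨e⟩ := KFlatLib.nonempty_rpush_tensor_finLocFree π L N hNf 0
    haveI := SpObjSS.enoughInjectives_of_hasInjectiveResolutions (C := X.Modules)
    haveI := QCoh.preservesFiniteLimits_push π
    let φ : (Coh.push π).obj M ≅ CohB1.tensorMod ((Coh.push π).obj L) N :=
      ((Coh.push π).rightDerivedZeroIsoSelf.app M).symm ≪≫ (Coh.Rpush π 0).mapIso em.symm ≪≫ e.symm ≪≫
        PicGrp.tensorModIso (Iso.refl N) ((Coh.push π).rightDerivedZeroIsoSelf.app L) ≪≫ (H23.PicMul.comm _ _).some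
    exact ⟨ψ.trans (S2926.hhIso k φ 1).toAddEquiv⟩
  obtain ⟨n₀, hn₀⟩ := AmpleVan.exists_vanishing (A := k) (HilbPoly.isAmple_twistProjSpace_one 1 k) hpushL
  have hbig : ∀ {M : X.Modules}, PicF.IsInvertible M → PicF.cl M = PicF.cl L * PicF.cl A ^ n₀ →
      Subsingleton (Coh.HH X M 1) := by
    intro M hM hcl
    obtain ⟨ψ⟩ := htw (CohB1.tensorPow (Twist.twistProjSpace 1 k 1) n₀) (InvX.isInvertible_tensorPow hT n₀) hM (by
      obtain ⟨e⟩ := IntNum.pullback_tensorPow π (Twist.twistProjSpace 1 k 1) n₀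
      rw [cl_eq_iff.2 ⟨e⟩, H23.PicMul.cl_tensorPow, hcl])
    haveI := hn₀ n₀ le_rfl 0
    exact ψ.toEquiv.subsingleton
  -- descent
  have key : ∀ j : ℕ, j ≤ n₀ → ∀ {M : X.Modules}, PicF.IsInvertible M →
      PicF.cl M = PicF.cl L * PicF.cl A ^ (n₀ - j) → Subsingleton (Coh.HH X M 1) := by
    intro j
    induction j with
    | zero => exact fun _ M hM hcl => hbig hM hcl
    | succ j ih =>
      intro hj M hM hcl
      obtain ⟨S, hS, e1, e2, -, hg⟩ := exists_seq (k := k) hL hA s hsupp hres (n₀ - j)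
      have h2 : PicF.IsInvertible S.X₂ := by
        obtain ⟨P, hP, eP⟩ := exists_rep hL hA (n₀ - j)
        exact H23.PicMul.isInvertible_of_iso (cl_eq_iff.1 (eP.trans e2.symm)).some hP
      haveI := injective_h1 (k := k) hS hg (ih (by omega) h2 e2)
      obtain ⟨e⟩ : Nonempty (M ≅ S.X₁) := cl_eq_iff.1 (by
        rw [e1, hcl, show n₀ - j = (n₀ - (j + 1)) + 1 from by omega, pow_succ',
          ← mul_assoc (PicF.cl L * _), mul_assoc (PicF.cl L) _ (PicF.cl A), hclD, mul_one])
      exact (S2926.hhIso k e 1).toEquiv.subsingleton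
  have hL1 : Subsingleton (Coh.HH X L 1) := key n₀ le_rfl hL (by rw [Nat.sub_self, pow_zero, mul_one])
  have hLD : Subsingleton (Coh.HH X (CohB1.tensorMod L (ClSub.idealMod D)) 1) := by
    obtain ⟨S, hS, e1, e2, -, hg⟩ := exists_seq (k := k) hL hA s hsupp hres 0
    rw [pow_zero, mul_one] at e1 e2
    haveI := hL1
    haveI : Subsingleton (Coh.HH X S.X₂ 1) := (S2926.hhIso k (cl_eq_iff.1 e2).some 1).toEquiv.subsingleton
    haveI := injective_h1 (k := k) hS hg inferInstance
    obtain ⟨e⟩ : Nonempty (CohB1.tensorMod L (ClSub.idealMod D) ≅ S.X₁) := cl_eq_iff.1 (by rw [cl_tensor, e1])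
    exact (S2926.hhIso k e 1).toEquiv.subsingleton
  refine ⟨hL1, hLD, ?_⟩
  obtain ⟨ψ⟩ := htw (Twist.twistProjSpace 1 k (-1)) (P1Split.isInvertible_T k (-1))
    (InvX.isInvertible_tensorMod hL hID) (by
    rw [cl_tensor]
    congr 1
    rw [← cl_eq_iff.2 ⟨eD⟩]
    exact cl_eq_iff.2 ⟨(Scheme.Modules.pullback π).mapIso (cl_eq_iff.1 hqcl).some⟩)
  haveI := hLD
  exact ψ.symm.toEquiv.subsingleton

end Groth.Agent.PlaneBlowUp
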