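import Groth.Agent.CurveCohLib.Euler
import Groth.Agent.VolLib.UnifTools

/-! A bound for `H¹` of a quotient. -/

noncomputable section

set_option autoImplicit false
set_option backward.isDefEq.respectTransparency false
set_option backward.isDefEq.respectTransparency.types false

universe u
open CategoryTheory CategoryTheory.Limits AlgebraicGeometry TopologicalSpace

namespace Groth.Agent.PlaneBlowUp

theorem finrank_h1_le {k : Type u} [Field k] {X : Scheme.{u}} [X.Over (Spec (CommRingCat.of k))]
    {S : ShortComplex X.Modules} (hS : S.ShortExact) (h1 : Subsingleton (Coh.HH X S.X₁ 2))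
    (hfin : Module.Finite k (Coh.HH X S.X₂ 1)) :
    Module.finrank k (Coh.HH X S.X₃ 1) ≤ Module.finrank k (Coh.HH X S.X₂ 1) :=
  LinearMap.finrank_le_finrank_of_surjective (f := PnCoh.Finite.mapLin k S.g 1) fun y => by
    obtain ⟨x, hx⟩ := (CurveCohLib.ker_deltaLin (A := k) hS 1).le
      (LinearMap.mem_ker.2 (Subsingleton.elim _ 0) : y ∈ _)
    exact ⟨x, hx⟩

theorem finrank_h1_tw_le {k : Type u} [Field k] {X : Scheme.{u}} [X.Over (Spec (CommRingCat.of k))]
    {B : X.Modules} (hB : PicF.IsInvertible B) {S : ShortComplex X.Modules} (hS : S.ShortExact)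
    (h1 : Subsingleton (Coh.HH X ((AmpleVan.tw B).obj S.X₁) 2))
    (hfin : Module.Finite k (Coh.HH X ((AmpleVan.tw B).obj S.X₂) 1)) :
    Module.finrank k (Coh.HH X ((AmpleVan.tw B).obj S.X₃) 1) ≤
      Module.finrank k (Coh.HH X ((AmpleVan.tw B).obj S.X₂) 1) := by
  obtain ⟨h, hses⟩ := VolLib.ses_tw hB hS
  exact finrank_h1_le (k := k) (S := ShortComplex.mk _ _ h) hses h1 hfin

end Groth.Agent.PlaneBlowUp
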